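import Groth.Agent.SmVar.K658.SecSmooth
import Groth.Agent.ProjDeg.K657.NormalSec
import Groth.Agent.ProjDeg.K657.TwistNeg
import Groth.Agent.VBPn.K697.LinSeq
import Groth.Agent.VBPn.K697.Lin

/-!
# Hyperplanes in projective space

* `ker_emb`: for a surjective linear map `A : k^(n+1) → k^(m+1)` with kernel spanned by `v`, the kernel of the
  linear embedding `emb A : P^m ⟶ P^n` is the zero scheme of the section of `O(1)` attached to the form of `v`;
* `exists_secOf`: every section of `O(1)` comes from a linear form (`n ≥ 1`).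
-/

set_option autoImplicit false
universe u
open CategoryTheory CategoryTheory.Limits AlgebraicGeometry TopologicalSpace Opposite HomogeneousLocalization
open Groth.Agent.VarietyB Groth.Agent.VarietyB.ProjHom Groth.Agent.VarietyB.ProjGlue
open Groth.Agent.Ega2.H298.ProjRatio Groth.Agent.Ega2.H298.ProjExt
open K697.Lin K658

namespace K836.Hyperplane

variable {k : Type u} [Field k] {n m : ℕ}

theorem away_ker {A : (Fin (n + 1) → k) →ₗ[k] (Fin (m + 1) → k)} (hA : Function.Surjective A)
    {v : Fin (n + 1) → k} (hv : LinearMap.ker A = Submodule.span k {v}) (f : CohB1.polyGrading n k 1)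
    (z : Away (CohB1.polyGrading n k) f.1)
    (hz : (Away.map (gr A) f.1 : Away (CohB1.polyGrading n k) f.1 →+* Away (CohB1.polyGrading m k) (gr A f.1)) z = 0) :
    z ∈ Ideal.span {frac (CohB1.polyGrading n k) f ⟨lf v, lf_mem v⟩} := by
  obtain ⟨N, a, ha, rfl⟩ := HomogeneousLocalization.Away.mk_surjective (CohB1.polyGrading n k) f.2 z
  rw [Away.map_mk] at hz
  have h1 := congrArg HomogeneousLocalization.val hz
  rw [Away.val_mk, HomogeneousLocalization.val_zero, Localization.mk_eq_mk', IsLocalization.mk'_eq_zero_iff] at h1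
  obtain ⟨⟨_, M, rfl⟩, hM⟩ := h1
  have h2 : gr A (f.1 ^ M * a) = 0 := by
    rw [map_mul, map_pow]
    exact hM
  have hdeg : f.1 ^ M * a ∈ CohB1.polyGrading n k (M + N) := by
    have h3 := SetLike.mul_mem_graded (SetLike.pow_mem_graded M f.2) ha
    simpa using h3
  obtain h3 | ⟨l, b, hl, hb⟩ := K697.LinSeq.ker_gr hA hv (M + N) (f.1 ^ M * a) hdeg h2
  · have h4 : Away.mk (CohB1.polyGrading n k) f.2 N a ha = 0 := by
      apply HomogeneousLocalization.val_injective
      rw [Away.val_mk, HomogeneousLocalization.val_zero, Localization.mk_eq_mk', IsLocalization.mk'_eq_zero_iff]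
      exact ⟨⟨_, M, rfl⟩, h3⟩
    rw [h4]
    exact zero_mem _
  · have h4 : Away.mk (CohB1.polyGrading n k) f.2 N a ha =
        Away.mk (CohB1.polyGrading n k) f.2 l b.1 (by simp) *
          frac (CohB1.polyGrading n k) f ⟨lf v, lf_mem v⟩ := by
      apply HomogeneousLocalization.val_injective
      rw [frac, HomogeneousLocalization.val_mul, Away.val_mk, Away.val_mk, Away.val_mk, Localization.mk_mul,
        Localization.mk_eq_mk_iff, Localization.r_iff_exists]
      refine ⟨⟨_, M, rfl⟩, ?_⟩
      change f.1 ^ M * ((f.1 ^ l * f.1 ^ 1) * a) = f.1 ^ M * (f.1 ^ N * (b.1 * lf v))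
      calc f.1 ^ M * ((f.1 ^ l * f.1 ^ 1) * a) = f.1 ^ (l + 1) * (f.1 ^ M * a) := by ring
        _ = f.1 ^ (M + N) * (lf v * b.1) := by rw [hb, hl]
        _ = _ := by ring
    rw [h4]
    exact Ideal.mul_mem_left _ _ (Ideal.subset_span rfl)

theorem app_ker {A : (Fin (n + 1) → k) →ₗ[k] (Fin (m + 1) → k)} (hA : Function.Surjective A)
    {v : Fin (n + 1) → k} (hv : LinearMap.ker A = Submodule.span k {v}) (f : CohB1.polyGrading n k 1) :
    RingHom.ker ((emb A hA).app (Proj.basicOpen (CohB1.polyGrading n k) f.1)).hom =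
      Ideal.span {ratio (CohB1.polyGrading n k) f ⟨lf v, lf_mem v⟩} := by
  have h1 := Proj.awayToSection_comp_appLE (gr A)
    (Groth.Agent.Sga5.ProjSurj.irrelevant_le_map (degSurj hA)) f.2
  have i1 : IsIso (Proj.awayToSection (CohB1.polyGrading n k) f.1) :=
    Groth.Agent.Sga5.ProjSurj.isIso_awayToSection Nat.one_pos _ f.2
  have i2 : IsIso (Proj.awayToSection (CohB1.polyGrading m k) (gr A f.1)) :=
    Groth.Agent.Sga5.ProjSurj.isIso_awayToSection Nat.one_pos _ ((gr A).2 f.2)
  have h2 : Function.Surjective (Proj.awayToSection (CohB1.polyGrading n k) f.1) :=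
    (ConcreteCategory.bijective_of_isIso _).2
  have h3 : Function.Injective (Proj.awayToSection (CohB1.polyGrading m k) (gr A f.1)) :=
    (ConcreteCategory.bijective_of_isIso _).1
  have h4 : ∀ w : Away (CohB1.polyGrading n k) f.1,
      ((emb A hA).app (Proj.basicOpen (CohB1.polyGrading n k) f.1)).hom
        (Proj.awayToSection (CohB1.polyGrading n k) f.1 w) =
      Proj.awayToSection (CohB1.polyGrading m k) (gr A f.1)
        ((Away.map (gr A) f.1 : Away (CohB1.polyGrading n k) f.1 →+*
          Away (CohB1.polyGrading m k) (gr A f.1)) w) := by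
    intro w
    have h5 := congrArg (fun t => t.hom w) h1
    rw [Scheme.Hom.app_eq_appLE]
    exact h5
  apply le_antisymm
  · intro z hz
    obtain ⟨w, rfl⟩ := h2 z
    rw [RingHom.mem_ker, h4] at hz
    have h6 := away_ker hA hv f w (h3 (hz.trans (map_zero _).symm))
    have h7 := Ideal.mem_map_of_mem (Proj.awayToSection (CohB1.polyGrading n k) f.1).hom h6
    rw [Ideal.map_span, Set.image_singleton] at h7
    exact h7
  · refine (Ideal.span_singleton_le_iff_mem _).2 ?_
    change ((emb A hA).app (Proj.basicOpen (CohB1.polyGrading n k) f.1)).hom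
        (Proj.awayToSection (CohB1.polyGrading n k) f.1 (frac (CohB1.polyGrading n k) f ⟨lf v, lf_mem v⟩)) = 0
    rw [h4, frac, Away.map_mk]
    have h8 : Away.mk (CohB1.polyGrading m k) ((gr A).2 f.2) 1 (gr A (lf v)) ((gr A).2 (by simpa using lf_mem v)) =
        0 := by
      apply HomogeneousLocalization.val_injective
      have hvk : A v = 0 := by
        have : v ∈ LinearMap.ker A := hv ▸ Submodule.mem_span_singleton_self v
        exact this
      rw [Away.val_mk, HomogeneousLocalization.val_zero, K697.LinSeq.gr_lf hvk, Localization.mk_zero]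
    exact (congrArg _ h8).trans (map_zero _)

/-- The kernel of a linear embedding of codimension one is the zero scheme of the linear form. -/
theorem ker_emb {A : (Fin (n + 1) → k) →ₗ[k] (Fin (m + 1) → k)} (hA : Function.Surjective A)
    {v : Fin (n + 1) → k} (hv : LinearMap.ker A = Submodule.span k {v}) :
    (emb A hA).ker = PicF2.zeroScheme (Twist.twist (CohB1.polyGrading n k) 1) (SecSmooth.secOf ⟨lf v, lf_mem v⟩) := by
  refine Scheme.IdealSheafData.ext_of_iSup_eq_top (SecSmooth.Daff k n)
    (iSup_basicOpen_eq_top (CohB1.polyGrading n k) (ProjSec.X1 k n) MvPolynomial.adjoin_range_X) fun j => ?_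
  rw [Scheme.Hom.ker_apply, SecSmooth.ideal_zeroScheme]
  exact app_ker hA hv (ProjSec.X1 k n j)

theorem exists_surj {v : Fin (n + 2) → k} (hv : v ≠ 0) :
    ∃ A : (Fin (n + 2) → k) →ₗ[k] (Fin (n + 1) → k), Function.Surjective A ∧
      LinearMap.ker A = Submodule.span k {v} := by
  let Q := (Fin (n + 2) → k) ⧸ Submodule.span k {v}
  have h1 : Module.finrank k Q = n + 1 := by
    have h2 := Submodule.finrank_quotient_add_finrank (Submodule.span k {v})
    rw [finrank_span_singleton hv, Module.finrank_fin_fun] at h2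
    exact Nat.succ.inj h2
  let e : Q ≃ₗ[k] (Fin (n + 1) → k) := (Module.finBasisOfFinrankEq k Q h1).equivFun
  refine ⟨e.toLinearMap ∘ₗ (Submodule.span k {v}).mkQ, e.surjective.comp (Submodule.mkQ_surjective _), ?_⟩
  rw [LinearMap.ker_comp, LinearEquiv.ker, ← LinearMap.ker, Submodule.ker_mkQ]

/-- Every section of `O(1)` on projective space comes from a linear form. -/
theorem exists_secOf (s : Coh.structureModule (Proj (CohB1.polyGrading n k)) ⟶ Twist.twist (CohB1.polyGrading n k) 1) :
    ∃ h : CohB1.polyGrading n k 1, s = SecSmooth.secOf h := by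
  obtain ⟨h, hh⟩ := (K657.NormalSec.bijective (CohB1.polyGrading n k)
    K657.TwistNeg.hgen K657.TwistNeg.h1 inferInstance 1).2 (Groth.Agent.Fdesc.LocGen.sec s ⊤)
  exact ⟨h, ((congrArg Groth.Agent.Fdesc.LocGen.homOf hh).trans (Groth.Agent.Fdesc.LocGen.homOf_sec s)).symm⟩

/-- A nonzero section of `O(1)` on `P^(n+1)` vanishes on a hyperplane isomorphic to `P^n`. -/
theorem exists_iso (s : Coh.structureModule (CohB1.ProjSpace (n + 1) k) ⟶ Twist.twistProjSpace (n + 1) k 1)
    (hs : s ≠ 0) :
    ∃ φ : CohB1.ProjSpace n k ≅ (PicF2.zeroScheme _ s).subscheme,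
      Nonempty ((Scheme.Modules.pullback (φ.hom ≫ (PicF2.zeroScheme _ s).subschemeι)).obj
          (Twist.twistProjSpace (n + 1) k 1) ≅ Twist.twistProjSpace n k 1) := by
  obtain ⟨h, rfl⟩ := exists_secOf s
  let v : Fin (n + 2) → k := fun i => MvPolynomial.coeff (Finsupp.single i 1) (h : MvPolynomial (Fin (n + 2)) k)
  have hv1 : lf v = h.1 := (ProjSec.linear_eq_sum h).symm
  have hh : h = ⟨lf v, lf_mem v⟩ := Subtype.ext hv1.symm
  have hv : v ≠ 0 := by
    intro hv0
    refine hs ?_
    have hh0 : h = 0 := Subtype.ext (by rw [← hv1, hv0, lf_zero]; rfl)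
    rw [hh0]
    refine Groth.Agent.Fdesc.LocGen.hom_ext_sec ?_
    refine (Groth.Agent.Fdesc.LocGen.sec_homOf _ _).trans ?_
    have h0 : glob (CohB1.polyGrading (n + 1) k) (0 : CohB1.polyGrading (n + 1) k 1) = 0 :=
      Subtype.ext (funext fun x => Subtype.ext (Localization.mk_zero _))
    rw [h0]
    exact map_zero _
  obtain ⟨A, hA, hker⟩ := exists_surj hv
  have h1 := ker_emb hA hker
  rw [← hh] at h1
  have key : ∀ J : (CohB1.ProjSpace (n + 1) k).IdealSheafData, (emb A hA).ker = J →
      ∃ φ : CohB1.ProjSpace n k ≅ J.subscheme, Nonempty ((Scheme.Modules.pullback (φ.hom ≫ J.subschemeι)).obj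
          (Twist.twistProjSpace (n + 1) k 1) ≅ Twist.twistProjSpace n k 1) := by
    rintro J rfl
    refine ⟨asIso (emb A hA).toImage, ?_⟩
    have h2 : (asIso (emb A hA).toImage).hom ≫ (emb A hA).ker.subschemeι = emb A hA :=
      (emb A hA).toImage_imageι
    rw [h2]
    exact ⟨K697.LinSeq.pullTw A hA 1⟩
  exact key _ h1

end K836.Hyperplane
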